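import Groth.Agent.Lib.GRingFT.Complete
import Groth.Agent.Lib.GeomReg.FiniteGRing
import Groth.Agent.Lib.GeomReg.Comp
import Groth.Agent.Lib.Smoothing.Popescu.Base

/-!
# Algebras of finite type over G-rings are G-rings
-/

set_option autoImplicit false
set_option backward.isDefEq.respectTransparency false
universe u

open IsLocalRing Polynomial TensorProduct

namespace GrothLib.GRingFT

theorem isNoetherianRing_fibre {A C : Type u} [CommRing A] [CommRing C] [Algebra A C] [IsNoetherianRing C]
    (q : Ideal A) [q.IsPrime] : IsNoetherianRing (q.Fiber C) := by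
  haveI : IsNoetherianRing (C ⊗[A] q.ResidueField) := Algebra.EssFiniteType.isNoetherianRing C _
  exact isNoetherianRing_of_ringEquiv _ (Algebra.TensorProduct.comm A C q.ResidueField).toRingEquiv

/-- Regularity over the base gives regularity over the polynomial ring, by differentiating. -/
theorem isRegularHom_of_base {A : Type u} [CommRing A] [IsNoetherianRing A] (P : Ideal A[X]) [P.IsPrime]
    (h : CAlg.IsRegularHom A (PCpl A P)) : CAlg.IsRegularHom (Localization.AtPrime P) (PCpl A P) := by
  haveI : IsNoetherianRing (Localization.AtPrime P) :=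
    IsLocalization.isNoetherianRing P.primeCompl _ inferInstance
  refine (GrothLib.GeomReg.isRegularHom_localization_left (R := A[X]) (R' := Localization.AtPrime P)
    P.primeCompl).mpr ⟨Module.Flat.trans A[X] (Localization.AtPrime P) (PCpl A P),
      fun q _ => ⟨isNoetherianRing_fibre q, fun L _ _ hL => ?_⟩⟩
  letI : Algebra A[X] L := ((algebraMap q.ResidueField L).comp (algebraMap A[X] q.ResidueField)).toAlgebra
  haveI : IsScalarTower A[X] q.ResidueField L := IsScalarTower.of_algebraMap_eq fun _ => rfl
  letI : Algebra A L := ((algebraMap A[X] L).comp (algebraMap A A[X])).toAlgebra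
  haveI : IsScalarTower A A[X] L := IsScalarTower.of_algebraMap_eq fun _ => rfl
  haveI := hL
  haveI : Algebra.EssFiniteType A[X] L := .comp A[X] q.ResidueField L
  haveI : Algebra.EssFiniteType A L := .comp A A[X] L
  haveI := GrothLib.GeomReg.isRegularRing_field_tensor h L
  obtain ⟨d, hd⟩ := exists_ddX A P
  haveI := isRegularRing_tensor_polynomial (A := A) L (PCpl A P) d hd
  exact IsRegularRing.of_ringEquiv (R := L ⊗[A[X]] PCpl A P)
    (Algebra.TensorProduct.cancelBaseChange A[X] q.ResidueField L L (PCpl A P)).symm.toRingEquiv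

/-- Coefficients that are congruent to fractions make polynomials congruent to fractions. -/
theorem exists_frac_congr_polynomial {A B : Type u} [CommRing A] [CommRing B] [Algebra A B] [IsLocalRing B]
    [Algebra A[X] B[X]] (hmap : ∀ f : A[X], algebraMap A[X] B[X] f = f.map (algebraMap A B))
    (p : Ideal A) [p.IsPrime] (P : Ideal A[X]) (hpP : ∀ a ∈ p, Polynomial.C a ∈ P)
    (hmax : maximalIdeal B = p.map (algebraMap A B))
    (hfrac : ∀ r : B, ∃ s ∉ p, ∃ a : A, algebraMap A B s * r - algebraMap A B a ∈ maximalIdeal B)
    (f : B[X]) :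
    ∃ s ∉ p, ∃ d : A[X], algebraMap A B[X] s * f - algebraMap A[X] B[X] d ∈ P.map (algebraMap A[X] B[X]) := by
  set PF := P.map (algebraMap A[X] B[X])
  have hC : ∀ r ∈ maximalIdeal B, Polynomial.C r ∈ PF := by
    intro r hr
    rw [hmax] at hr
    refine (Ideal.map_le_iff_le_comap (K := PF.comap Polynomial.C)).2 (fun a ha => ?_) hr
    have h1 := Ideal.mem_map_of_mem (algebraMap A[X] B[X]) (hpP a ha)
    rw [hmap, Polynomial.map_C] at h1
    exact h1
  induction f using Polynomial.induction_on' with
  | add f g hf hg =>
    obtain ⟨s, hs, d, hd⟩ := hf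
    obtain ⟨s', hs', d', hd'⟩ := hg
    refine ⟨s * s', fun h => (Ideal.IsPrime.mem_or_mem inferInstance h).elim hs hs',
      Polynomial.C s' * d + Polynomial.C s * d', ?_⟩
    have e : ∀ a : A, algebraMap A[X] B[X] (Polynomial.C a) = algebraMap A B[X] a := fun a => by
      rw [hmap, Polynomial.map_C]; rfl
    have h1 := add_mem (PF.mul_mem_left (algebraMap A B[X] s') hd) (PF.mul_mem_left (algebraMap A B[X] s) hd')
    convert h1 using 1
    rw [map_mul, map_add, map_mul, map_mul, e, e]
    ring
  | monomial n b =>
    obtain ⟨s, hs, a, ha⟩ := hfrac b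
    refine ⟨s, hs, Polynomial.monomial n a, ?_⟩
    have h1 := PF.mul_mem_right (X ^ n) (hC _ ha)
    convert h1 using 1
    rw [hmap, Polynomial.map_monomial, ← C_mul_X_pow_eq_monomial, ← C_mul_X_pow_eq_monomial, map_sub, map_mul]
    show Polynomial.C (algebraMap A B s) * _ - _ = _
    ring

/-- Two local rings with the same completion. -/
theorem exists_completion_algEquiv {D R T : Type u} [CommRing D] [CommRing R] [CommRing T] [IsLocalRing R]
    [IsLocalRing T] [IsNoetherianRing R] [IsNoetherianRing T] [Algebra R T] [IsLocalHom (algebraMap R T)]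
    [Module.Flat R T] [Algebra D R] [Algebra D T] [IsScalarTower D R T]
    (hm : (maximalIdeal R).map (algebraMap R T) = maximalIdeal T)
    (hk : Function.Bijective (ResidueField.map (algebraMap R T))) :
    Nonempty (AdicCompletion (maximalIdeal R) R ≃ₐ[D] AdicCompletion (maximalIdeal T) T) := by
  obtain ⟨ψ, hψ⟩ := GrothLib.GeomReg.exists_completion_map R T
  refine ⟨AlgEquiv.ofBijective { ψ with commutes' := fun x => ?_ }
    (GrothLib.AdicExtra.bijective_completion ψ hψ hm hk)⟩
  show ψ (algebraMap D _ x) = _
  rw [IsScalarTower.algebraMap_apply D R (AdicCompletion (maximalIdeal R) R),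
    IsScalarTower.algebraMap_apply D T (AdicCompletion (maximalIdeal T) T),
    IsScalarTower.algebraMap_apply D R T]
  exact RingHom.congr_fun hψ _

/-- Residue fields of a prime of a base change agreeing with that of the base. -/
theorem residueField_map_bijective {R T : Type u} [CommRing R] [CommRing T] [IsLocalRing R] [IsLocalRing T]
    [Algebra R T] [IsLocalHom (algebraMap R T)]
    (h : ∀ t : T, ∃ z, algebraMap R T z - t ∈ maximalIdeal T) :
    Function.Bijective (ResidueField.map (algebraMap R T)) := by
  refine ⟨RingHom.injective _, fun x => ?_⟩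
  obtain ⟨t, rfl⟩ := residue_surjective x
  obtain ⟨z, hz⟩ := h t
  exact ⟨residue _ z, (ResidueField.map_residue _ z).trans (Ideal.Quotient.eq.mpr hz)⟩

set_option maxHeartbeats 800000 in
/-- A G-ring maps regularly to the completions of the local rings of its polynomial ring. -/
theorem isRegularHom_pCpl_of_isGRing {A : Type u} [CommRing A] (hA : CAlg.IsGRing A) (P : Ideal A[X])
    [P.IsPrime] : CAlg.IsRegularHom A (PCpl A P) := by
  haveI := hA.1
  let p := P.comap (algebraMap A A[X])
  haveI : IsNoetherianRing (Localization.AtPrime p) :=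
    IsLocalization.isNoetherianRing p.primeCompl _ inferInstance
  let B := AdicCompletion (maximalIdeal (Localization.AtPrime p)) (Localization.AtPrime p)
  have hAB : CAlg.IsRegularHom A B :=
    (GrothLib.GeomReg.isRegularHom_localization_left (R := A) (R' := Localization.AtPrime p) p.primeCompl).mp
      (hA.2 p)
  haveI := hAB.1
  have hmax : maximalIdeal B = p.map (algebraMap A B) := calc
    maximalIdeal B = (maximalIdeal (Localization.AtPrime p)).map (algebraMap _ B) :=
      AdicCompletion.maximalIdeal_eq_map
    _ = (p.map (algebraMap A (Localization.AtPrime p))).map (algebraMap _ B) :=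
      congrArg (Ideal.map _) Localization.AtPrime.map_eq_maximalIdeal.symm
    _ = p.map (algebraMap A B) := by rw [Ideal.map_map, ← IsScalarTower.algebraMap_eq]
  have hfrac : ∀ r : B, ∃ s ∉ p, ∃ a : A, algebraMap A B s * r - algebraMap A B a ∈ maximalIdeal B := fun r => by
    obtain ⟨y, hy⟩ :=
      (AdicCompletion.residueField_map_bijective (Localization.AtPrime p)).2 (residue B r)
    obtain ⟨r₀, rfl⟩ := residue_surjective y
    obtain ⟨⟨a, s⟩, has⟩ := IsLocalization.surj p.primeCompl r₀
    refine ⟨s, s.2, a, ?_⟩
    have hr₀ : r - algebraMap _ B r₀ ∈ maximalIdeal B := by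
      rw [← residue_eq_zero_iff, map_sub, ← hy, ResidueField.map_residue, sub_self]
    have h2 : algebraMap A B a = algebraMap A B (s : A) * algebraMap _ B r₀ := by
      rw [IsScalarTower.algebraMap_apply A (Localization.AtPrime p) B a,
        IsScalarTower.algebraMap_apply A (Localization.AtPrime p) B (s : A), ← map_mul,
        mul_comm (algebraMap A (Localization.AtPrime p) (s : A)), has]
    rw [h2, ← mul_sub]
    exact Ideal.mul_mem_left _ _ hr₀
  -- the prime of `B[X]` over `P`
  letI : Algebra p.ResidueField P.ResidueField :=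
    (Ideal.ResidueField.mapₐ p P (Algebra.ofId A A[X]) rfl).toRingHom.toAlgebra
  haveI : IsScalarTower A p.ResidueField P.ResidueField :=
    IsScalarTower.of_algebraMap_eq fun x =>
      ((Ideal.ResidueField.mapₐ p P (Algebra.ofId A A[X]) rfl).commutes x).symm
  let ρ : B →ₐ[A] P.ResidueField :=
    (Ideal.Quotient.liftₐ (maximalIdeal (Localization.AtPrime p))
      ((IsScalarTower.toAlgHom A p.ResidueField P.ResidueField).comp
        (IsScalarTower.toAlgHom A (Localization.AtPrime p) p.ResidueField)) fun a ha => by
      show algebraMap p.ResidueField P.ResidueField (residue (Localization.AtPrime p) a) = 0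
      rw [(residue_eq_zero_iff a).mpr ha, map_zero]).comp
      ((AdicCompletion.evalOneₐ (maximalIdeal (Localization.AtPrime p))).restrictScalars A)
  let Φ : B[X] →+* P.ResidueField := Polynomial.eval₂RingHom ρ.toRingHom (algebraMap A[X] P.ResidueField X)
  let M := RingHom.ker Φ
  haveI : M.IsPrime := RingHom.ker_isPrime _
  letI : Algebra A[X] B[X] := Polynomial.algebra A B
  have hΦ : ∀ f : A[X], Φ (algebraMap A[X] B[X] f) = algebraMap A[X] P.ResidueField f := by
    intro f
    refine RingHom.congr_fun (Polynomial.ringHom_ext (f := Φ.comp (algebraMap A[X] B[X]))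
      (g := algebraMap A[X] P.ResidueField) (fun a => ?_) ?_) f
    · show eval₂ _ _ ((Polynomial.C a).map (algebraMap A B)) = _
      rw [Polynomial.map_C, eval₂_C, Polynomial.C_eq_algebraMap, ← IsScalarTower.algebraMap_apply]
      exact ρ.commutes a
    · show eval₂ _ _ (X.map (algebraMap A B)) = _
      rw [Polynomial.map_X, eval₂_X]
  have hMP : M.comap (algebraMap A[X] B[X]) = P := by
    ext f
    show Φ (algebraMap A[X] B[X] f) = 0 ↔ _
    rw [hΦ]
    exact Ideal.algebraMap_residueField_eq_zero
  haveI : Module.Flat A[X] B[X] :=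
    Module.Flat.of_linearEquiv (Algebra.IsPushout.equiv A A[X] B B[X]).toLinearEquiv.symm
  let R := Localization.AtPrime P
  let T := Localization.AtPrime M
  haveI : IsNoetherianRing R := IsLocalization.isNoetherianRing P.primeCompl _ inferInstance
  haveI : IsNoetherianRing T := IsLocalization.isNoetherianRing M.primeCompl _ inferInstance
  letI : Algebra R T := (Localization.localRingHom P M (algebraMap A[X] B[X]) hMP.symm).toAlgebra
  haveI : IsScalarTower A[X] R T := IsScalarTower.of_algebraMap_eq fun f => by
    rw [IsScalarTower.algebraMap_apply A[X] B[X] T]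
    exact (Localization.localRingHom_to_map P M (algebraMap A[X] B[X]) hMP.symm f).symm
  haveI : IsLocalHom (algebraMap R T) := Localization.isLocalHom_localRingHom _ _ _ _
  haveI : Module.Flat A[X] T := Module.Flat.trans A[X] B[X] T
  haveI : Module.Flat R T := (Module.flat_iff_of_isLocalization R P.primeCompl (M := T)).mpr inferInstance
  obtain ⟨hm, hres⟩ := GrothLib.GeomReg.fibre_of_fractions (A := A) (D := A[X]) (F := B[X]) P M hMP
    (exists_frac_congr_polynomial (fun _ => rfl) p P (fun a ha => ha) hmax hfrac)
  obtain ⟨e⟩ := exists_completion_algEquiv (D := A[X]) (R := R) (T := T) hm (residueField_map_bijective hres)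
  have hBC : CAlg.IsRegularHom B (PCpl B M) := isRegularHom_pCpl B M
  have hAC : CAlg.IsRegularHom A (PCpl B M) :=
    GrothLib.GeomReg.isRegularHom_comp hAB hBC fun q _ => isNoetherianRing_fibre q
  exact Smoothing.Popescu.isRegularHom_of_algEquiv (e.symm.restrictScalars A) hAC

/-- The polynomial ring over a G-ring is a G-ring. -/
theorem isGRing_polynomial {A : Type u} [CommRing A] (hA : CAlg.IsGRing A) : CAlg.IsGRing A[X] := by
  haveI := hA.1
  exact ⟨inferInstance, fun P _ => isRegularHom_of_base P (isRegularHom_pCpl_of_isGRing hA P)⟩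

theorem isGRing_congr {A B : Type u} [CommRing A] [CommRing B] (e : A ≃+* B) (hA : CAlg.IsGRing A) :
    CAlg.IsGRing B := by
  letI := e.toRingHom.toAlgebra
  haveI : Module.Finite A B := Module.Finite.of_surjective (Algebra.linearMap A B) e.surjective
  exact GrothLib.GeomReg.isGRing_of_finite A B hA

/-- Polynomial rings in finitely many variables over a G-ring are G-rings. -/
theorem isGRing_mvPolynomial {A : Type u} [CommRing A] (hA : CAlg.IsGRing A) :
    ∀ n : ℕ, CAlg.IsGRing (MvPolynomial (Fin n) A)
  | 0 => isGRing_congr (MvPolynomial.isEmptyAlgEquiv A (Fin 0)).symm.toRingEquiv hA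
  | n + 1 => isGRing_congr (MvPolynomial.finSuccEquiv A n).symm.toRingEquiv
      (isGRing_polynomial (isGRing_mvPolynomial hA n))

/-- An algebra of finite type over a G-ring is a G-ring. -/
theorem isGRing_of_finiteType {A : Type u} [CommRing A] (hA : CAlg.IsGRing A) (S : Type u) [CommRing S]
    [Algebra A S] [Algebra.FiniteType A S] : CAlg.IsGRing S := by
  obtain ⟨n, f, hf⟩ := Algebra.FiniteType.iff_quotient_mvPolynomial''.1 (inferInstance : Algebra.FiniteType A S)
  letI := f.toRingHom.toAlgebra
  haveI : Module.Finite (MvPolynomial (Fin n) A) S := Module.Finite.of_surjective (Algebra.linearMap _ S) hf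
  exact GrothLib.GeomReg.isGRing_of_finite (MvPolynomial (Fin n) A) S (isGRing_mvPolynomial hA n)

end GrothLib.GRingFT
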