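import Groth.Agent.Lib.AdicFSFlat.Andre
import Groth.Agent.Lib.AdicExtra.Local
import Groth.Agent.Lib.AdicExtra.Complete
import Groth.Agent.Lib.GeomReg.FiniteGRing
import Groth.Agent.Lib.FormalDescent.Basic
import Groth.Agent.S9317

/-!
# Regularity of maps to completions of formally smooth local algebras
-/

set_option autoImplicit false
universe u

namespace GrothLib.GRingFT

/-- If the formal fibres of `A` are geometrically regular and `A → B` is adically formally smooth, the map
from `A` to the completion of `B` is regular. -/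
theorem isRegularHom_to_completion {A B : Type u} [CommRing A] [CommRing B] [IsLocalRing A] [IsLocalRing B]
    [IsNoetherianRing A] [IsNoetherianRing B] [Algebra A B] [IsLocalHom (algebraMap A B)]
    (hA : CAlg.IsRegularHom A (AdicCompletion (IsLocalRing.maximalIdeal A) A))
    (h : CAlgX.IsAdicFormallySmooth A B (IsLocalRing.maximalIdeal B)) :
    CAlg.IsRegularHom A (AdicCompletion (IsLocalRing.maximalIdeal B) B) := by
  obtain ⟨ψ, hψ⟩ := GrothLib.GeomReg.exists_completion_map A B
  let Â := AdicCompletion (IsLocalRing.maximalIdeal A) A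
  let B' := AdicCompletion (IsLocalRing.maximalIdeal B) B
  letI : Algebra Â B' := ψ.toAlgebra
  haveI : IsScalarTower A Â B' := IsScalarTower.of_algebraMap_eq fun a => by
    rw [IsScalarTower.algebraMap_apply A B B']
    exact (RingHom.congr_fun hψ a).symm
  haveI : IsLocalHom (algebraMap Â B') := GrothLib.AdicExtra.isLocalHom_completion ψ hψ
  haveI : IsAdicComplete (IsLocalRing.maximalIdeal Â) Â := by
    rw [AdicCompletion.maximalIdeal_eq_map]
    exact AdicCompletion.isAdicComplete_self _ (IsLocalRing.maximalIdeal _).fg_of_isNoetherianRing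
  haveI : IsAdicComplete (IsLocalRing.maximalIdeal B') B' := by
    rw [AdicCompletion.maximalIdeal_eq_map]
    exact AdicCompletion.isAdicComplete_self _ (IsLocalRing.maximalIdeal _).fg_of_isNoetherianRing
  have hfs : CAlgX.IsAdicFormallySmooth Â B' (IsLocalRing.maximalIdeal B') := by
    have h1 := (Groth.Agent.S9317.result (IsLocalRing.maximalIdeal A) (IsLocalRing.maximalIdeal B)
      (IsNoetherian.noetherian _) (IsNoetherian.noetherian _)
      ⟨1, by rw [pow_one]; exact ((IsLocalRing.local_hom_TFAE (algebraMap A B)).out 0 2 rfl rfl).mp inferInstance⟩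
      ψ hψ).1 h
    rwa [← AdicCompletion.maximalIdeal_eq_map] at h1
  have h2 : CAlg.IsRegularHom Â B' := GrothLib.AdicFSFlat.isRegularHom_of_complete hfs
  have h3 : CAlg.IsRegularHom A B' :=
    GrothLib.GeomReg.isRegularHom_comp hA h2 fun p _ => GrothLib.FormalDescent.isNoetherianRing_fiber A B' p
  exact h3

/-- Formally smooth algebras are adically formally smooth. -/
theorem isAdicFormallySmooth_of_formallySmooth (A B : Type u) [CommRing A] [CommRing B] [Algebra A B]
    [Algebra.FormallySmooth A B] (n : Ideal B) : CAlgX.IsAdicFormallySmooth A B n :=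
  fun C _ _ J hJ ψ _ => ⟨Algebra.FormallySmooth.lift J ⟨2, hJ⟩ ψ, Algebra.FormallySmooth.comp_lift J ⟨2, hJ⟩ ψ⟩

end GrothLib.GRingFT
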