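import Groth.Agent.Lib.GRingFT.Insep

/-!
# Complete local rings: regularity of the completed local rings of their polynomial rings
-/

set_option autoImplicit false
set_option backward.isDefEq.respectTransparency false
universe u

open IsLocalRing Polynomial TensorProduct GrothLib.J2 GrothLib.GRingComplete

namespace GrothLib.GRingFT

/-- Base change along a pushout square commutes with tensor products. -/
theorem exists_algEquiv_pushout (R B R' B' C : Type u) [CommRing R] [CommRing B] [Algebra R B] [CommRing R']
    [Algebra R R'] [CommRing B'] [Algebra R B'] [Algebra R' B'] [Algebra B B'] [IsScalarTower R R' B']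
    [IsScalarTower R B B'] [Algebra.IsPushout R R' B B'] [CommRing C] [Algebra R' C] [Algebra R C]
    [IsScalarTower R R' C] : Nonempty (B ⊗[R] C ≃ₐ[B] B' ⊗[R'] C) := by
  let e1 : B ⊗[R] C ≃+* C ⊗[R'] (R' ⊗[R] B) :=
    (Algebra.TensorProduct.comm R B C).toRingEquiv.trans
      (Algebra.TensorProduct.cancelBaseChange R R' C C B).symm.toRingEquiv
  let e2 : C ⊗[R'] (R' ⊗[R] B) ≃+* B' ⊗[R'] C :=
    (Algebra.TensorProduct.congr (AlgEquiv.refl (R := R') (A₁ := C))
      (Algebra.IsPushout.equiv R R' B B')).toRingEquiv.trans (Algebra.TensorProduct.comm R' C B').toRingEquiv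
  refine ⟨AlgEquiv.ofRingEquiv (f := e1.trans e2) fun b => ?_⟩
  show e2 ((Algebra.TensorProduct.cancelBaseChange R R' C C B).symm ((1 : C) ⊗ₜ b)) = _
  rw [Algebra.TensorProduct.cancelBaseChange_symm_tmul]
  show (Algebra.TensorProduct.comm R' C B') ((1 : C) ⊗ₜ[R'] (Algebra.IsPushout.equiv R R' B B' ((1 : R') ⊗ₜ b))) = _
  rw [Algebra.IsPushout.equiv_tmul, map_one, one_mul, Algebra.TensorProduct.comm_tmul,
    Algebra.TensorProduct.algebraMap_apply]

/-- Regular fibres pass to a localisation of the pushout. -/
theorem fibre_of_model {R B R' B' C T : Type u} [CommRing R] [CommRing B] [Algebra R B] [CommRing R']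
    [Algebra R R'] [CommRing B'] [Algebra R B'] [Algebra R' B'] [Algebra B B'] [IsScalarTower R R' B']
    [IsScalarTower R B B'] [Algebra.IsPushout R R' B B'] [CommRing C] [Algebra R' C] [Algebra R C]
    [IsScalarTower R R' C] [CommRing T] [Algebra B' T] [Algebra B T] [IsScalarTower B B' T]
    (M : Ideal (B' ⊗[R'] C)) [M.IsPrime] (eM : Localization.AtPrime M ≃ₐ[B'] T)
    (L : Type u) [CommRing L] [Algebra B L] [Algebra R L] [IsScalarTower R B L]
    [IsRegularRing (L ⊗[R] C)] : IsRegularRing (L ⊗[B] T) := by
  obtain ⟨e⟩ := exists_algEquiv_pushout R B R' B' C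
  haveI : IsRegularRing (L ⊗[B] (B ⊗[R] C)) := IsRegularRing.of_ringEquiv (R := L ⊗[R] C)
    (Algebra.TensorProduct.cancelBaseChange R B L L C).symm.toRingEquiv
  haveI : IsRegularRing (L ⊗[B] (B' ⊗[R'] C)) :=
    IsRegularRing.of_ringEquiv (R := L ⊗[B] (B ⊗[R] C))
      (Algebra.TensorProduct.congr (AlgEquiv.refl (R := B) (A₁ := L)) e).toRingEquiv
  haveI : IsRegularRing (L ⊗[B] Localization.AtPrime M) :=
    GrothLib.GeomReg.isRegularRing_tensor_localization (R := B) (S := B' ⊗[R'] C)
      (S' := Localization.AtPrime M) M.primeCompl L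
  exact IsRegularRing.of_ringEquiv (R := L ⊗[B] Localization.AtPrime M)
    (Algebra.TensorProduct.congr (AlgEquiv.refl (R := B) (A₁ := L)) (eM.restrictScalars B)).toRingEquiv

/-- Regular fibres descend along a surjection when the pushout is local. -/
theorem fibre_of_surjective {A B A' B' C T : Type u} [CommRing A] [CommRing B] [Algebra A B] [CommRing A']
    [Algebra A A'] [CommRing B'] [Algebra A B'] [Algebra A' B'] [Algebra B B'] [IsScalarTower A A' B']
    [IsScalarTower A B B'] [Algebra.IsPushout A A' B B'] [CommRing C] [IsLocalRing C] [Algebra A' C]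
    [Algebra A C] [IsScalarTower A A' C] [CommRing T] [Algebra B' T] [Algebra B T] [IsScalarTower B B' T]
    (hsurj : Function.Surjective (algebraMap A' B'))
    (M : Ideal (B' ⊗[A'] C)) [hM : M.IsMaximal] (eM : Localization.AtPrime M ≃ₐ[B'] T)
    (L : Type u) [CommRing L] [Algebra B L] [Algebra A L] [IsScalarTower A B L]
    [IsRegularRing (L ⊗[B] T)] : IsRegularRing (L ⊗[A] C) := by
  obtain ⟨e⟩ := exists_algEquiv_pushout A B A' B' C
  have hs : Function.Surjective (Algebra.TensorProduct.includeRight : C →ₐ[A'] B' ⊗[A'] C) :=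
    TensorProduct.mk_surjective _ _ _ hsurj
  haveI : Nontrivial (B' ⊗[A'] C) := nontrivial_of_ne _ _ fun h : (0 : B' ⊗[A'] C) = 1 =>
    hM.ne_top (Ideal.eq_top_iff_one _ |>.2 (h ▸ M.zero_mem))
  haveI : IsLocalRing (B' ⊗[A'] C) := IsLocalRing.of_surjective' _ hs
  have hMu : M.primeCompl ≤ IsUnit.submonoid (B' ⊗[A'] C) := fun x hx => by
    by_contra h
    have : x ∈ maximalIdeal (B' ⊗[A'] C) := (mem_maximalIdeal _).2 h
    rw [← IsLocalRing.eq_maximalIdeal hM] at this
    exact hx this
  let e0 := IsLocalization.atUnits (B' ⊗[A'] C) M.primeCompl (S := Localization.AtPrime M) hMu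
  haveI : IsRegularRing (L ⊗[B] (B ⊗[A] C)) := IsRegularRing.of_ringEquiv (R := L ⊗[B] T)
    (Algebra.TensorProduct.congr (AlgEquiv.refl (R := B) (A₁ := L))
      (e.trans ((e0.restrictScalars B).trans (eM.restrictScalars B)))).symm.toRingEquiv
  exact IsRegularRing.of_ringEquiv (R := L ⊗[B] (B ⊗[A] C))
    (Algebra.TensorProduct.cancelBaseChange A B L L C).toRingEquiv

/-- Passing to a finite algebra. -/
theorem fibre_of_finite {R B : Type u} [CommRing R] [IsNoetherianRing R] [CommRing B] [Algebra R B]
    [Module.Finite R B] (Q : Ideal B[X]) [Q.IsPrime] (P : Ideal R[X]) [P.IsPrime]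
    (hPQ : Q.comap (mapRingHom (algebraMap R B)) = P) (L : Type u) [CommRing L] [Algebra B L] [Algebra R L]
    [IsScalarTower R B L] [IsRegularRing (L ⊗[R] PCpl R P)] : IsRegularRing (L ⊗[B] PCpl B Q) := by
  letI := Polynomial.algebra R B
  haveI : Module.Finite R[X] B[X] :=
    Module.Finite.equiv (Algebra.IsPushout.equiv R R[X] B B[X]).toLinearEquiv
  obtain ⟨M, hM, ⟨eM⟩⟩ := exists_completion_model R[X] B[X] P Q hPQ
  exact fibre_of_model (R := R) (B := B) (R' := R[X]) (B' := B[X]) (C := PCpl R P) (T := PCpl B Q) M eM L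

/-- Fibres at the generic point of a finite domain over a good base. -/
theorem fibre_of_polyGood {R B : Type u} [CommRing R] [IsDomain R] [IsNoetherianRing R]
    [CommRing B] [IsDomain B] [Algebra R B] [Module.Finite R B] [FaithfulSMul R B] (hR : PolyGood R)
    (Q : Ideal B[X]) [Q.IsPrime] (κ L : Type u) [Field κ] [Algebra B κ] [IsFractionRing B κ] [Field L]
    [Algebra κ L] [Algebra B L] [IsScalarTower B κ L] [Module.Finite κ L] :
    IsRegularRing (L ⊗[B] PCpl B Q) := by
  letI := FractionRing.liftAlgebra R (FractionRing B)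
  haveI : FiniteDimensional (FractionRing R) (FractionRing B) := inferInstance
  let e := FractionRing.algEquiv B κ
  let φ : FractionRing R →+* L :=
    (algebraMap κ L).comp (e.toRingEquiv.toRingHom.comp (algebraMap (FractionRing R) (FractionRing B)))
  letI : Algebra (FractionRing R) L := φ.toAlgebra
  letI : Algebra R L := ((algebraMap B L).comp (algebraMap R B)).toAlgebra
  haveI : IsScalarTower R B L := IsScalarTower.of_algebraMap_eq fun _ => rfl
  haveI : IsScalarTower R (FractionRing R) L := IsScalarTower.of_algebraMap_eq fun x => by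
    show algebraMap B L (algebraMap R B x) =
      algebraMap κ L (e (algebraMap (FractionRing R) (FractionRing B) (algebraMap R (FractionRing R) x)))
    rw [← IsScalarTower.algebraMap_apply R (FractionRing R) (FractionRing B),
      IsScalarTower.algebraMap_apply R B (FractionRing B), e.commutes, ← IsScalarTower.algebraMap_apply B κ L]
  have hφ : φ.Finite := RingHom.Finite.comp (RingHom.finite_algebraMap.2 ‹Module.Finite κ L›)
    (RingHom.Finite.comp (RingHom.Finite.of_surjective _ e.surjective)
      (RingHom.finite_algebraMap.2 ‹FiniteDimensional (FractionRing R) (FractionRing B)›))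
  haveI : FiniteDimensional (FractionRing R) L := hφ
  haveI := hR (Q.comap (mapRingHom (algebraMap R B))) L
  exact fibre_of_finite (R := R) Q _ rfl L

/-- Fibres at the generic point of a complete local domain. -/
theorem fibre_completeDomain {B : Type u} [CommRing B] [IsDomain B] [IsLocalRing B]
    [IsNoetherianRing B] [IsAdicComplete (maximalIdeal B) B] (Q : Ideal B[X]) [Q.IsPrime] (κ L : Type u)
    [Field κ] [Algebra B κ] [IsFractionRing B κ] [Field L] [Algebra κ L] [Algebra B L] [IsScalarTower B κ L]
    [Module.Finite κ L] : IsRegularRing (L ⊗[B] PCpl B Q) := by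
  rcases complete_domain_cases B with ⟨p, hp, k, _, hk, d, φ, hfin, hinj⟩ | ⟨R, _, hR1, hR2, hR3, φ, hfin, hinj⟩
  · haveI := Fact.mk hp
    letI := φ.toAlgebra
    haveI : Module.Finite (MvPowerSeries (Fin d) k) B := hfin
    haveI : FaithfulSMul (MvPowerSeries (Fin d) k) B := (faithfulSMul_iff_algebraMap_injective _ _).2 hinj
    exact fibre_of_polyGood (polyGood_powerSeries p k d) Q κ L
  · haveI := hR1
    haveI := hR2
    haveI := hR3
    haveI : IsRegularRing R := GrothLib.Serre.isRegularRing_of_isRegularLocalRing R
    letI := φ.toAlgebra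
    haveI : Module.Finite R B := hfin
    haveI : FaithfulSMul R B := (faithfulSMul_iff_algebraMap_injective _ _).2 hinj
    exact fibre_of_polyGood (polyGood_charZero R) Q κ L

set_option maxHeartbeats 800000 in
/-- The field fibres over a complete local ring of the completions of local rings of its polynomial
ring are regular. -/
theorem fibre_complete (A : Type u) [CommRing A] [IsLocalRing A] [IsNoetherianRing A]
    [IsAdicComplete (maximalIdeal A) A] (P : Ideal A[X]) [P.IsPrime] (q : Ideal A) [q.IsPrime]
    (L : Type u) [Field L] [Algebra A L] [Algebra q.ResidueField L] [IsScalarTower A q.ResidueField L]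
    [Module.Finite q.ResidueField L] : IsRegularRing (L ⊗[A] PCpl A P) := by
  let C := PCpl A P
  by_cases hqP : q.map Polynomial.C ≤ P
  · let B := A ⧸ q
    haveI : IsLocalRing B := IsLocalRing.of_surjective' (Ideal.Quotient.mk q) Ideal.Quotient.mk_surjective
    haveI : IsAdicComplete (maximalIdeal B) B := GrothLib.AdicExtra.isAdicComplete_localRing (R := A) (S := B)
    letI := Polynomial.algebra A B
    letI : Algebra B L := ((algebraMap q.ResidueField L).comp (algebraMap B q.ResidueField)).toAlgebra
    haveI : IsScalarTower B q.ResidueField L := IsScalarTower.of_algebraMap_eq fun _ => rfl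
    haveI : IsScalarTower A B L := IsScalarTower.of_algebraMap_eq fun a => by
      show algebraMap A L a = algebraMap q.ResidueField L (algebraMap B q.ResidueField (algebraMap A B a))
      rw [← IsScalarTower.algebraMap_apply A B q.ResidueField, ← IsScalarTower.algebraMap_apply]
    have hsurjX : Function.Surjective (algebraMap A[X] B[X]) :=
      Polynomial.map_surjective _ Ideal.Quotient.mk_surjective
    have hker : RingHom.ker (algebraMap A[X] B[X]) ≤ P := by
      show RingHom.ker (mapRingHom (Ideal.Quotient.mk q)) ≤ P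
      rw [Polynomial.ker_mapRingHom, Ideal.mk_ker]
      exact hqP
    let Q := P.map (algebraMap A[X] B[X])
    haveI : Q.IsPrime := Ideal.map_isPrime_of_surjective hsurjX hker
    have hQ : Q.comap (algebraMap A[X] B[X]) = P := by
      rw [Ideal.comap_map_of_surjective' _ hsurjX]
      exact sup_eq_left.2 hker
    haveI : Module.Finite A[X] B[X] :=
      Module.Finite.equiv (Algebra.IsPushout.equiv A A[X] B B[X]).toLinearEquiv
    obtain ⟨M, hM, ⟨eM⟩⟩ := exists_completion_model A[X] B[X] P Q hQ
    haveI : IsNoetherianRing (Localization.AtPrime P) :=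
      IsLocalization.isNoetherianRing P.primeCompl _ inferInstance
    haveI := hM
    haveI := fibre_completeDomain Q q.ResidueField L
    exact fibre_of_surjective (A := A) (B := B) (A' := A[X]) (B' := B[X]) (C := C) (T := PCpl B Q) hsurjX M eM L
  · obtain ⟨s, hsq, hsP⟩ : ∃ s ∈ q, Polynomial.C s ∉ P := by
      simpa [Ideal.map_le_iff_le_comap, SetLike.not_le_iff_exists] using hqP
    have hsub : Subsingleton (L ⊗[A] C) := by
      have h0 : algebraMap A L s = 0 := by
        rw [IsScalarTower.algebraMap_apply A q.ResidueField L,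
          Ideal.algebraMap_residueField_eq_zero.2 hsq, map_zero]
      have hu : IsUnit (algebraMap A C s) := by
        rw [IsScalarTower.algebraMap_apply A A[X] C, IsScalarTower.algebraMap_apply A[X] (Localization.AtPrime P) C]
        exact (IsLocalization.map_units (Localization.AtPrime P) (⟨Polynomial.C s, hsP⟩ : P.primeCompl)).map _
      obtain ⟨z, hz⟩ := isUnit_iff_exists_inv.1
        (hu.map (Algebra.TensorProduct.includeRight : C →ₐ[A] L ⊗[A] C))
      rw [AlgHom.commutes, IsScalarTower.algebraMap_apply A L (L ⊗[A] C), h0, map_zero, zero_mul] at hz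
      exact subsingleton_iff_zero_eq_one.1 hz
    rw [isRegularRing_iff]
    exact fun Q hQ => absurd (Ideal.eq_top_iff_one Q |>.2
      (by rw [Subsingleton.elim (1 : L ⊗[A] C) 0]; exact Q.zero_mem)) hQ.ne_top

/-- A complete local ring maps regularly to the completions of the local rings of its polynomial ring. -/
theorem isRegularHom_pCpl (A : Type u) [CommRing A] [IsLocalRing A] [IsNoetherianRing A]
    [IsAdicComplete (maximalIdeal A) A] (P : Ideal A[X]) [P.IsPrime] : CAlg.IsRegularHom A (PCpl A P) := by
  haveI : IsNoetherianRing (Localization.AtPrime P) :=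
    IsLocalization.isNoetherianRing P.primeCompl _ inferInstance
  let C := PCpl A P
  haveI : Module.Flat A (Localization.AtPrime P) := Module.Flat.trans A A[X] (Localization.AtPrime P)
  refine ⟨Module.Flat.trans A (Localization.AtPrime P) C, fun q _ => ⟨?_, fun L _ _ hL => ?_⟩⟩
  · haveI : IsNoetherianRing (C ⊗[A] q.ResidueField) := Algebra.EssFiniteType.isNoetherianRing C _
    exact isNoetherianRing_of_ringEquiv _ (Algebra.TensorProduct.comm A C q.ResidueField).toRingEquiv
  · letI : Algebra A L := ((algebraMap q.ResidueField L).comp (algebraMap A q.ResidueField)).toAlgebra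
    haveI : IsScalarTower A q.ResidueField L := IsScalarTower.of_algebraMap_eq fun _ => rfl
    haveI := hL
    haveI := fibre_complete A P q L
    exact IsRegularRing.of_ringEquiv (R := L ⊗[A] C)
      (Algebra.TensorProduct.cancelBaseChange A q.ResidueField L L C).symm.toRingEquiv

end GrothLib.GRingFT
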