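import Groth.Agent.Lib.GRingFT.AdicSmooth
import Groth.Agent.Lib.Hensel.RegularTransfer
import Groth.Agent.Lib.GRingFT.Main

/-!
# Noetherian ind-étale algebras over G-rings
-/

set_option autoImplicit false
set_option backward.isDefEq.respectTransparency false

universe u

open IsLocalRing

namespace GrothLib.GRingFT

/-- A Noetherian ind-étale algebra over a G-ring is a G-ring. -/
theorem isGRing_of_etaleStages {R S : Type u} [CommRing R] [CommRing S] [Algebra R S] [IsNoetherianRing S]
    [Algebra.FormallyEtale R S] (hS : GrothLib.Hensel.EtaleStages R S) (hR : CAlg.IsGRing R) : CAlg.IsGRing S := by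
  haveI := hR.1
  refine ⟨inferInstance, fun P _ => ?_⟩
  let p := P.under R
  letI := Localization.AtPrime.algebraOfLiesOver p P
  haveI : IsLocalHom (algebraMap (Localization.AtPrime p) (Localization.AtPrime P)) :=
    Localization.isLocalHom_localRingHom _ _ _ _
  haveI : IsNoetherianRing (Localization.AtPrime P) := IsLocalization.isNoetherianRing P.primeCompl _ inferInstance
  haveI : IsNoetherianRing (Localization.AtPrime p) := IsLocalization.isNoetherianRing p.primeCompl _ inferInstance
  haveI : Algebra.FormallyEtale S (Localization.AtPrime P) := .of_isLocalization P.primeCompl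
  haveI : Algebra.FormallySmooth R (Localization.AtPrime P) := Algebra.FormallySmooth.comp R S _
  haveI : Algebra.FormallyEtale R (Localization.AtPrime p) := .of_isLocalization p.primeCompl
  haveI : Algebra.FormallySmooth (Localization.AtPrime p) (Localization.AtPrime P) :=
    Algebra.FormallySmooth.of_restrictScalars R _ _
  let T := AdicCompletion (maximalIdeal (Localization.AtPrime P)) (Localization.AtPrime P)
  have h1 : CAlg.IsRegularHom (Localization.AtPrime p) T :=
    isRegularHom_to_completion (hR.2 p) (isAdicFormallySmooth_of_formallySmooth _ _ _)
  have h2 : CAlg.IsRegularHom R T :=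
    (GrothLib.GeomReg.isRegularHom_localization_left (R := R) (R' := Localization.AtPrime p) p.primeCompl).1 h1
  haveI : IsNoetherianRing T := inferInstance
  exact (GrothLib.GeomReg.isRegularHom_localization_left (R := S) (R' := Localization.AtPrime P) P.primeCompl).2
    (hS.isRegularHom_of_restrictScalars T h2)

end GrothLib.GRingFT
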