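import Groth.Agent.Lib.GRingFT.Lift
import Groth.Agent.Lib.GRingComplete.Main

/-!
# Regularity of fibres over a regular base after finite field extensions, with lifted derivations
-/

set_option autoImplicit false
set_option backward.isDefEq.respectTransparency false
universe u

open IsLocalRing Polynomial TensorProduct GrothLib.J2 GrothLib.GRingComplete

namespace GrothLib.GRingFT

/-- Derivations of finite algebras extend to the base change to `Q`. -/
def LiftsDerivations (R Q : Type u) [CommRing R] [CommRing Q] [Algebra R Q] : Prop :=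
  ∀ (S : Type u) [CommRing S] [Algebra R S], Module.Finite R S → ∀ D : Derivation ℤ S S,
    ∃ Δ : Derivation ℤ (S ⊗[R] Q) (S ⊗[R] Q), ∀ s, Δ (s ⊗ₜ 1) = D s ⊗ₜ 1

/-- Adjoining a `p`-th root over `Q`. -/
theorem isRegularRing_tensor_step {R S E E' Q : Type u} [CommRing R] [CommRing S] [CommRing Q] [Algebra R Q]
    [Algebra R S] [Module.Finite R S] [Field E] [Algebra R E] [Algebra S E] [IsScalarTower R S E]
    [IsFractionRing S E] [Field E'] [Algebra E E'] [Algebra R E'] [IsScalarTower R E E']
    (hQ : LiftsDerivations R Q) (p : ℕ) (hp : p ≠ 0) (a : S) (D : Derivation ℤ S S) (hD : D a ≠ 0)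
    (e : AdjoinRoot ((X : E[X]) ^ p - Polynomial.C (algebraMap S E a)) ≃ₐ[E] E')
    [IsRegularRing (E ⊗[R] Q)] : IsRegularRing (E' ⊗[R] Q) := by
  obtain ⟨Δ, hΔ⟩ := hQ S inferInstance D
  letI : Algebra S E' := ((algebraMap E E').comp (algebraMap S E)).toAlgebra
  haveI : IsScalarTower S E E' := IsScalarTower.of_algebraMap_eq fun _ => rfl
  haveI : IsScalarTower R S E' := IsScalarTower.of_algebraMap_eq fun x => by
    show algebraMap R E' x = algebraMap E E' (algebraMap S E (algebraMap R S x))
    rw [← IsScalarTower.algebraMap_apply R S E, ← IsScalarTower.algebraMap_apply]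
  haveI : IsRegularRing (E ⊗[S] (S ⊗[R] Q)) :=
    IsRegularRing.of_ringEquiv (R := E ⊗[R] Q) (Algebra.TensorProduct.cancelBaseChange R S E E _).symm.toRingEquiv
  have := isRegularRing_tensor_step' (C := S ⊗[R] Q) p hp a D hD Δ (hΔ a) e
  exact IsRegularRing.of_ringEquiv (R := E' ⊗[S] (S ⊗[R] Q))
    (Algebra.TensorProduct.cancelBaseChange R S E' E' _).toRingEquiv

set_option maxHeartbeats 800000 in
/-- The purely inseparable case. -/
theorem isRegularRing_tensor_insep {R K L Q : Type u} [CommRing R] [IsDomain R] [IsNoetherianRing R]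
    [Field K] [Algebra R K] [IsFractionRing R K] [Field L] [Algebra K L] [Algebra R L] [IsScalarTower R K L]
    [FiniteDimensional K L] [IsPurelyInseparable K L] (p : ℕ) [hp : Fact p.Prime] [CharP K p]
    (hder : DetectsPowers R K p) [CommRing Q] [Algebra R Q] [IsRegularRing Q] (hQ : LiftsDerivations R Q) :
    IsRegularRing (L ⊗[R] Q) := by
  haveI : ExpChar K p := ExpChar.prime hp.out
  haveI : CharP L p := charP_of_injective_ringHom (algebraMap K L).injective p
  haveI : ExpChar L p := ExpChar.prime hp.out
  let Good : Set (IntermediateField K L) := {E | IsRegularRing (E ⊗[R] Q)}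
  have hbot : (⊥ : IntermediateField K L) ∈ Good := by
    haveI := isRegularRing_fractions_tensor R K Q
    exact IsRegularRing.of_ringEquiv (R := K ⊗[R] Q)
      (Algebra.TensorProduct.congr ((IntermediateField.botEquiv K L).symm.restrictScalars R)
        (AlgEquiv.refl (R := R) (A₁ := Q))).toRingEquiv
  haveI : WellFoundedGT (IntermediateField K L) :=
    StrictMono.wellFoundedGT (f := fun F : IntermediateField K L => Subalgebra.toSubmodule F.toSubalgebra)
      fun a b h => show Subalgebra.toSubmodule a.toSubalgebra < Subalgebra.toSubmodule b.toSubalgebra from h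
  obtain ⟨E, hE, hmax⟩ := wellFounded_gt.has_min Good ⟨⊥, hbot⟩
  have hE' : IsRegularRing (E ⊗[R] Q) := hE
  by_cases htop : E = ⊤
  · subst htop
    exact IsRegularRing.of_ringEquiv (R := (⊤ : IntermediateField K L) ⊗[R] Q)
      (Algebra.TensorProduct.congr (IntermediateField.topEquiv.restrictScalars R)
        (AlgEquiv.refl (R := R) (A₁ := Q))).toRingEquiv
  exfalso
  obtain ⟨z, hz⟩ : ∃ z : L, z ∉ E := by
    by_contra hcon
    push Not at hcon
    exact htop (eq_top_iff.2 fun x _ => hcon x)
  have hex : ∃ n, z ^ p ^ n ∈ E := by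
    obtain ⟨n, w, hw⟩ := IsPurelyInseparable.pow_mem K p z
    exact ⟨n, hw ▸ E.algebraMap_mem w⟩
  classical
  have hn0 : Nat.find hex ≠ 0 := fun h => hz (by simpa [h] using Nat.find_spec hex)
  obtain ⟨n, hn⟩ := Nat.exists_eq_succ_of_ne_zero hn0
  set x := z ^ p ^ n
  have hx : x ∉ E := Nat.find_min hex (by omega)
  have hxp : x ^ p ∈ E := by
    rw [← pow_mul, ← pow_succ, ← Nat.succ_eq_add_one, ← hn]
    exact Nat.find_spec hex
  obtain ⟨S, hSfin, hSE⟩ := exists_model (R := R) E
  subst hSE
  obtain ⟨c, hc, d, hd, hcd⟩ := exists_div_of_mem_fracField S hxp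
  set E := fracField (K := K) S
  have hd0 : d ≠ 0 := by
    rintro rfl
    rw [div_zero, eq_comm, pow_eq_zero_iff hp.out.ne_zero] at hcd
    exact hx (hcd ▸ zero_mem _)
  let y := x * d
  have hyE : y ∉ E := fun h => hx (by simpa [y, hd0] using div_mem h (subset_fracField (K := K) S hd))
  obtain ⟨q, hq⟩ : ∃ q, p = q + 1 := ⟨p - 1, (Nat.sub_add_cancel hp.out.one_le).symm⟩
  let a : S := ⟨c * d ^ q, mul_mem hc (pow_mem hd q)⟩
  have hya : y ^ p = (a : L) := by
    show (x * d) ^ p = c * d ^ q
    rw [mul_pow, ← hcd, hq, pow_succ']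
    field_simp
  have hno : ∀ b ∈ E, b ^ p ≠ (a : L) := by
    intro b hb h
    exact hyE (frobenius_inj L p (show frobenius L p b = frobenius L p y from h.trans hya.symm) ▸ hb)
  obtain ⟨D, hD⟩ := hder L ‹_› S hSfin a hno
  letI : Algebra S E := (toFracField (K := K) S).toAlgebra
  haveI := isFractionRing_fracField (K := K) S
  haveI : IsScalarTower R S E := IsScalarTower.of_algebraMap_eq fun _ => Subtype.ext rfl
  haveI := hSfin
  let aE : E := algebraMap S E a
  have hirr : Irreducible ((X : E[X]) ^ p - C aE) :=
    X_pow_sub_C_irreducible_of_prime hp.out fun b hb => hno b b.2 (congrArg Subtype.val hb :)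
  have hmin : (X : E[X]) ^ p - C aE = minpoly E y :=
    minpoly.eq_of_irreducible_of_monic hirr (by
      rw [map_sub, map_pow, aeval_X, aeval_C, hya]; exact sub_self _) (monic_X_pow_sub_C _ hp.out.ne_zero)
  haveI : IsScalarTower R E L := IsScalarTower.of_algebraMap_eq fun _ => rfl
  let E' := IntermediateField.adjoin E {y}
  have hint : IsIntegral E y := (Algebra.IsIntegral.isIntegral (R := K) y).tower_top
  let e : AdjoinRoot ((X : E[X]) ^ p - C (algebraMap S E a)) ≃ₐ[E] E' :=
    (AdjoinRoot.mapAlgEquiv (AlgEquiv.refl : E ≃ₐ[E] E) _ _ (Associated.of_eq (by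
      rw [← hmin]; simp [aE]))).trans (IntermediateField.adjoinRootEquivAdjoin E hint)
  haveI : IsRegularRing (E' ⊗[R] Q) := isRegularRing_tensor_step hQ p hp.out.ne_zero a D hD e
  refine hmax (E'.restrictScalars K) ‹IsRegularRing (E' ⊗[R] Q)› (lt_of_le_of_ne ?_ fun he => hyE ?_)
  · intro w hw
    exact E'.algebraMap_mem ⟨w, hw⟩
  · rw [he]
    exact IntermediateField.mem_adjoin_simple_self E y

/-- Regularity of the fibre after any finite extension of the fraction field. -/
theorem isRegularRing_tensor_of_detects {R K Q : Type u} [CommRing R] [IsDomain R] [IsNoetherianRing R]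
    [Field K] [Algebra R K] [IsFractionRing R K] (p : ℕ) [Fact p.Prime] [CharP K p]
    (hder : DetectsPowers R K p) [CommRing Q] [Algebra R Q] [IsRegularRing Q] (hQ : LiftsDerivations R Q)
    (L : Type u) [Field L] [Algebra K L] [Algebra R L] [IsScalarTower R K L] [FiniteDimensional K L] :
    IsRegularRing (L ⊗[R] Q) := by
  haveI := isRegularRing_fractions_tensor R K Q
  haveI : IsNoetherianRing (K ⊗[R] Q) := inferInstance
  haveI := GrothLib.GeomReg.isRegularRing_tensor_of_purelyInseparable (k := K) (S := K ⊗[R] Q)
    (fun k' _ _ hfin hins => by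
      letI : Algebra R k' := ((algebraMap K k').comp (algebraMap R K)).toAlgebra
      haveI : IsScalarTower R K k' := IsScalarTower.of_algebraMap_eq fun _ => rfl
      haveI := hfin
      haveI := hins
      haveI := isRegularRing_tensor_insep (L := k') p hder hQ
      exact IsRegularRing.of_ringEquiv (R := k' ⊗[R] Q)
        (Algebra.TensorProduct.cancelBaseChange R K k' k' Q).symm.toRingEquiv) L
  exact IsRegularRing.of_ringEquiv (R := L ⊗[K] (K ⊗[R] Q))
    (Algebra.TensorProduct.cancelBaseChange R K L L Q).toRingEquiv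

/-- The completion of a local ring of a polynomial ring over a regular ring is regular. -/
theorem isRegularRing_pCpl (R : Type u) [CommRing R] [IsRegularRing R] (P : Ideal R[X]) [P.IsPrime] :
    IsRegularRing (PCpl R P) := isRegularRing_completion R[X] P

/-- Fibres at the generic point of the completions of local rings of polynomial rings. -/
def PolyGood (R : Type u) [CommRing R] [IsDomain R] : Prop :=
  ∀ (P : Ideal R[X]) [P.IsPrime] (L : Type u) [Field L] [Algebra (FractionRing R) L] [Algebra R L]
    [IsScalarTower R (FractionRing R) L] [FiniteDimensional (FractionRing R) L],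
    IsRegularRing (L ⊗[R] PCpl R P)

theorem polyGood_charZero (R : Type u) [CommRing R] [IsDomain R] [IsRegularRing R] [CharZero R] : PolyGood R := by
  intro P _ L _ _ _ _ _
  haveI : CharZero (FractionRing R) :=
    charZero_of_injective_ringHom (IsFractionRing.injective R (FractionRing R))
  haveI := isRegularRing_pCpl R P
  exact isRegularRing_tensor_of_isSeparable R (FractionRing R) L _

theorem polyGood_powerSeries (p : ℕ) [hp : Fact p.Prime] (k : Type u) [Field k] [CharP k p] (d : ℕ) :
    PolyGood (MvPowerSeries (Fin d) k) := by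
  intro P _ L _ _ _ _ _
  haveI : IsRegularRing (MvPowerSeries (Fin d) k) := GrothLib.Serre.isRegularRing_of_isRegularLocalRing _
  haveI := isRegularRing_pCpl (MvPowerSeries (Fin d) k) P
  haveI : CharP (MvPowerSeries (Fin d) k) p :=
    charP_of_injective_ringHom (f := MvPowerSeries.C (σ := Fin d) (R := k)) (RingHom.injective _) p
  haveI : CharP (FractionRing (MvPowerSeries (Fin d) k)) p :=
    charP_of_injective_ringHom (IsFractionRing.injective (MvPowerSeries (Fin d) k) _) p
  refine isRegularRing_tensor_of_detects (K := FractionRing (MvPowerSeries (Fin d) k)) p ?_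
    (fun S _ _ hS D => by haveI := hS; exact exists_derivation_lift_polynomial P D) L
  intro L' _ _ _ _ _ S hS a ha
  haveI := hS
  letI := (toFracField (K := FractionRing (MvPowerSeries (Fin d) k)) S).toAlgebra
  haveI := isFractionRing_fracField (K := FractionRing (MvPowerSeries (Fin d) k)) S
  haveI : IsScalarTower (MvPowerSeries (Fin d) k) S
      (fracField (K := FractionRing (MvPowerSeries (Fin d) k)) S) :=
    IsScalarTower.of_algebraMap_eq fun r => Subtype.ext rfl
  have hinj : Function.Injective (algebraMap (MvPowerSeries (Fin d) k) L') := by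
    rw [IsScalarTower.algebraMap_eq _ (FractionRing (MvPowerSeries (Fin d) k)) L']
    exact (algebraMap (FractionRing (MvPowerSeries (Fin d) k)) L').injective.comp (IsFractionRing.injective _ _)
  exact GrothLib.J2.exists_derivation p d (k := k)
    (E := fracField (K := FractionRing (MvPowerSeries (Fin d) k)) S)
    (fun x y h => hinj (congrArg Subtype.val h :)) a fun b hb => ha b b.2 (congrArg Subtype.val hb :)

end GrothLib.GRingFT
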