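import Groth.Agent.Lib.FibProp5.Regular
import Groth.Agent.Lib.GeomReg.Comp
import Groth.Agent.Lib.GeomReg.Local
import Groth.Agent.Lib.Excellent.FormalFibres

/-!
# Openness of regular loci over local G-rings
-/

set_option autoImplicit false
set_option backward.isDefEq.respectTransparency false

universe u

open IsLocalRing TensorProduct

namespace GrothLib.GRingFT

/-- Regularity of local rings along a regular homomorphism. -/
theorem comap_preimage_regLocus {S T : Type u} [CommRing S] [CommRing T] [IsNoetherianRing S] [IsNoetherianRing T]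
    [Algebra S T] (h : CAlg.IsRegularHom S T) :
    PrimeSpectrum.comap (algebraMap S T) ⁻¹' EGA4.regLocus S = EGA4.regLocus T := by
  haveI := h.1
  ext Q
  let q := Q.asIdeal.under S
  show IsRegularLocalRing (Localization.AtPrime q) ↔ IsRegularLocalRing (Localization.AtPrime Q.asIdeal)
  letI := Localization.AtPrime.algebraOfLiesOver q Q.asIdeal
  haveI : IsLocalHom (algebraMap (Localization.AtPrime q) (Localization.AtPrime Q.asIdeal)) :=
    Localization.isLocalHom_localRingHom _ _ _ _
  haveI : IsNoetherianRing (Localization.AtPrime Q.asIdeal) :=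
    IsLocalization.isNoetherianRing Q.asIdeal.primeCompl _ inferInstance
  haveI : IsNoetherianRing (Localization.AtPrime q) := IsLocalization.isNoetherianRing q.primeCompl _ inferInstance
  have h' : CAlg.IsRegularHom (Localization.AtPrime q) (Localization.AtPrime Q.asIdeal) :=
    (GeomReg.isRegularHom_localization_left (R := S) (R' := Localization.AtPrime q) q.primeCompl).2
      (GeomReg.isRegularHom_localization_right h Q.asIdeal.primeCompl)
  haveI := h'.1
  refine ⟨fun hq => ?_, fun hQ => Serre.isRegularLocalRing_of_flat _ (Localization.AtPrime Q.asIdeal)⟩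
  haveI := hq
  haveI : IsRegularRing (Localization.AtPrime q) := Serre.isRegularRing_of_isRegularLocalRing _
  let e := (Algebra.TensorProduct.lid (Localization.AtPrime q) (Localization.AtPrime Q.asIdeal)).toRingEquiv
  haveI : IsNoetherianRing (Localization.AtPrime q ⊗[Localization.AtPrime q] Localization.AtPrime Q.asIdeal) :=
    isNoetherianRing_of_ringEquiv _ e.symm
  have := GeomReg.isRegularRing_tensor h' (Localization.AtPrime q)
  haveI : IsRegularRing (Localization.AtPrime Q.asIdeal) :=
    IsRegularRing.of_ringEquiv (R := Localization.AtPrime q ⊗[Localization.AtPrime q] Localization.AtPrime Q.asIdeal) e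
  exact FibProp5.isRegularLocalRing_of_isRegularRing _

/-- A Noetherian local ring with geometrically regular formal fibres is J-2. -/
theorem isJ2_of_isRegularHom_completion (R : Type u) [CommRing R] [IsLocalRing R] [IsNoetherianRing R]
    (h : CAlg.IsRegularHom R (AdicCompletion (maximalIdeal R) R)) : EGA4.IsJ2 R := by
  intro S _ _ hS
  let C := AdicCompletion (maximalIdeal R) R
  haveI := h.1
  haveI : Algebra.FiniteType R S := hS
  haveI : IsNoetherianRing S := Algebra.FiniteType.isNoetherianRing R S
  letI : Algebra C (S ⊗[R] C) := Algebra.TensorProduct.rightAlgebra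
  let e : C ⊗[R] S ≃ₐ[C] S ⊗[R] C := AlgEquiv.ofRingEquiv (f := (Algebra.TensorProduct.comm R C S).toRingEquiv)
    fun c => by
      show (Algebra.TensorProduct.comm R C S) (c ⊗ₜ 1) = 1 ⊗ₜ c
      simp
  haveI : Algebra.FiniteType C (S ⊗[R] C) := Algebra.FiniteType.equiv inferInstance e
  haveI : IsNoetherianRing (S ⊗[R] C) := Algebra.FiniteType.isNoetherianRing C _
  haveI : Module.FaithfullyFlat R C := Module.FaithfullyFlat.of_flat_of_isLocalHom
  refine Excellent.isOpen_of_comap_eq (A := S) (A' := S ⊗[R] C) ?_
  rw [comap_preimage_regLocus (GeomReg.isRegularHom_baseChange (C := S) h)]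
  exact J2.isJ2_of_finiteJ0 (J2.finiteJ0_of_isAdicComplete C) _ inferInstance

end GrothLib.GRingFT
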