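import Groth.Agent.Lib.GRingFT.Quotient
import Mathlib.RingTheory.Derivation.MapCoeffs

/-!
# Derivations of completions of local rings of polynomial rings
-/

set_option autoImplicit false
set_option backward.isDefEq.respectTransparency false
universe u

open TensorProduct Polynomial IsLocalRing

namespace GrothLib.GRingFT

/-- The completion of the local ring of a polynomial ring at a prime. -/
abbrev PCpl (A : Type u) [CommRing A] (P : Ideal A[X]) [P.IsPrime] : Type u :=
  AdicCompletion (maximalIdeal (Localization.AtPrime P)) (Localization.AtPrime P)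

/-- The derivative extends to the completion. -/
theorem exists_ddX (A : Type u) [CommRing A] [IsNoetherianRing A] (P : Ideal A[X]) [P.IsPrime] :
    ∃ d : Derivation A (PCpl A P) (PCpl A P), d (algebraMap A[X] (PCpl A P) X) = 1 := by
  let D : Derivation ℤ A[X] A[X] := (Polynomial.derivative' : Derivation A A[X] A[X]).restrictScalars ℤ
  obtain ⟨Δ, hΔ⟩ := GrothLib.GRingComplete.exists_derivation_lift (R := A[X]) (S := A[X]) P D
  let e := Algebra.TensorProduct.lid A[X] (PCpl A P)
  have hD : ∀ c, e.symm (algebraMap A[X] (PCpl A P) c) = c ⊗ₜ 1 := fun c => by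
    rw [AlgEquiv.commutes]; rfl
  let f : PCpl A P →+ PCpl A P :=
    AddMonoidHom.mk' (fun c => e (Δ (e.symm c))) fun x y => by rw [map_add, map_add, map_add]
  have hf : ∀ p, f (algebraMap A[X] _ p) = algebraMap A[X] _ (D p) := fun p => by
    show e (Δ (e.symm _)) = _
    rw [hD, hΔ, ← hD, AlgEquiv.apply_symm_apply]
  have hleib : ∀ x y, f (x * y) = x * f y + y * f x := fun x y => by
    show e (Δ (e.symm (x * y))) = _
    rw [map_mul e.symm, Δ.leibniz, map_add, smul_eq_mul, smul_eq_mul, map_mul, map_mul,
      AlgEquiv.apply_symm_apply, AlgEquiv.apply_symm_apply]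
    rfl
  have hA : ∀ a : A, f (algebraMap A (PCpl A P) a) = 0 := fun a => by
    rw [IsScalarTower.algebraMap_apply A A[X] (PCpl A P), hf]
    show algebraMap A[X] _ (derivative (Polynomial.C a)) = 0
    rw [derivative_C, map_zero]
  refine ⟨Derivation.mk' { toFun := f, map_add' := f.map_add, map_smul' := fun a x => ?_ } hleib, ?_⟩
  · show f (a • x) = a • f x
    rw [Algebra.smul_def, Algebra.smul_def, hleib, hA, mul_zero, add_zero]
  · show f (algebraMap A[X] _ X) = 1
    rw [hf]
    show algebraMap A[X] _ (derivative X) = 1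
    rw [derivative_X, map_one]

/-- Derivations of finite algebras extend to tensor products with completions of local rings of
polynomial rings. -/
theorem exists_derivation_lift_polynomial {R S : Type u} [CommRing R] [IsNoetherianRing R] [CommRing S]
    [Algebra R S] [Module.Finite R S] (P : Ideal R[X]) [P.IsPrime] (D : Derivation ℤ S S) :
    ∃ Δ : Derivation ℤ (S ⊗[R] PCpl R P) (S ⊗[R] PCpl R P), ∀ s, Δ (s ⊗ₜ 1) = D s ⊗ₜ 1 := by
  letI : Algebra R[X] S[X] := Polynomial.algebra R S
  letI : Algebra (PCpl R P) (S ⊗[R] PCpl R P) := Algebra.TensorProduct.rightAlgebra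
  haveI : Module.Finite (PCpl R P) (S ⊗[R] PCpl R P) :=
    Module.Finite.equiv ({ Algebra.TensorProduct.comm R (PCpl R P) S with
      commutes' := fun c => rfl } : (PCpl R P ⊗[R] S) ≃ₐ[PCpl R P] S ⊗[R] PCpl R P).toLinearEquiv
  letI : Differential S := ⟨D⟩
  let D' : Derivation ℤ S[X] S[X] := Derivation.mk'
    ((Differential.mapCoeffs (A := S)).toLinearMap.toAddMonoidHom.toIntLinearMap)
    fun x y => (Differential.mapCoeffs (A := S)).leibniz x y
  let ι : S[X] →+* S ⊗[R] PCpl R P :=
    Polynomial.eval₂RingHom Algebra.TensorProduct.includeLeftRingHom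
      ((1 : S) ⊗ₜ algebraMap R[X] (PCpl R P) X)
  have hι : ∀ x : R[X], ι (algebraMap R[X] S[X] x) =
      algebraMap (PCpl R P) (S ⊗[R] PCpl R P) (algebraMap R[X] (PCpl R P) x) := by
    intro x
    refine RingHom.congr_fun (Polynomial.ringHom_ext (f := ι.comp (algebraMap R[X] S[X]))
      (g := (algebraMap (PCpl R P) (S ⊗[R] PCpl R P)).comp (algebraMap R[X] (PCpl R P))) (fun a => ?_) ?_) x
    · show ι ((Polynomial.C a).map (algebraMap R S)) = (1 : S) ⊗ₜ algebraMap R[X] (PCpl R P) (Polynomial.C a)
      rw [Polynomial.map_C]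
      show eval₂ _ _ (Polynomial.C (algebraMap R S a)) = _
      rw [eval₂_C, Polynomial.C_eq_algebraMap, ← IsScalarTower.algebraMap_apply]
      show algebraMap R S a ⊗ₜ[R] (1 : PCpl R P) = _
      rw [Algebra.algebraMap_eq_smul_one, Algebra.algebraMap_eq_smul_one, smul_tmul]
    · show ι (X.map (algebraMap R S)) = (1 : S) ⊗ₜ algebraMap R[X] (PCpl R P) X
      rw [Polynomial.map_X]
      exact eval₂_X _ _
  have hC : ∀ s, ι (Polynomial.C s) = s ⊗ₜ 1 := fun s => eval₂_C _ _
  obtain ⟨Δ, hΔ⟩ := GrothLib.GRingComplete.exists_derivation_of_pushout (R := R[X]) P D' ι hι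
    (fun E _ f g h => by
      have hg : ∀ x : R, f (Polynomial.C (algebraMap R S x)) = g (algebraMap R (PCpl R P) x) := fun x => by
        have := h (Polynomial.C x)
        rw [show algebraMap R[X] S[X] (Polynomial.C x) = Polynomial.C (algebraMap R S x) from
          Polynomial.map_C _, Polynomial.C_eq_algebraMap, ← IsScalarTower.algebraMap_apply] at this
        exact this
      obtain ⟨Ψ, hΨ⟩ := GrothLib.GRingComplete.exists_tensor_ringHom (R := R) (f.comp Polynomial.C) g hg
      refine ⟨Ψ, fun s => ?_, fun c => ?_⟩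
      · refine RingHom.congr_fun (Polynomial.ringHom_ext (f := Ψ.comp ι) (g := f) (fun a => ?_) ?_) s
        · show Ψ (ι (Polynomial.C a)) = _
          rw [hC, hΨ, map_one, mul_one]
          rfl
        · show Ψ (ι X) = f X
          rw [show ι X = (1 : S) ⊗ₜ algebraMap R[X] (PCpl R P) X from eval₂_X _ _, hΨ, map_one, one_mul,
            ← h X]
          exact congrArg f (Polynomial.map_X _)
      · show Ψ ((1 : S) ⊗ₜ[R] c) = g c
        rw [hΨ, map_one, one_mul])
    (fun F hs hc t => by
      induction t using TensorProduct.induction_on with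
      | zero => simp
      | add x y hx hy => rw [map_add, hx, hy]
      | tmul s c =>
        have e : s ⊗ₜ[R] c = ι (Polynomial.C s) * algebraMap (PCpl R P) (S ⊗[R] PCpl R P) c := by
          rw [hC, show algebraMap (PCpl R P) (S ⊗[R] PCpl R P) c = (1 : S) ⊗ₜ c from rfl,
            Algebra.TensorProduct.tmul_mul_tmul, mul_one, one_mul]
        rw [e, map_mul, hs, hc])
  refine ⟨Δ, fun s => ?_⟩
  rw [← hC, hΔ, ← hC]
  congr 1
  exact Differential.mapCoeffs_C s

end GrothLib.GRingFT
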