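import Groth.Agent.Lib.GeomReg.FiniteGRing
import Groth.Agent.Lib.Excellent.Localization
import Mathlib.RingTheory.ZariskisMainTheorem

/-!
# Formal fibres of quasi-finite algebras
-/

set_option autoImplicit false
universe u

open IsLocalRing TensorProduct

namespace GrothLib.GRingFT

open GrothLib.GeomReg in
/-- The local rings of a finite algebra have regular completion maps over primes where the base does. -/
theorem isRegularHom_completion_of_finite_at {A D : Type u} [CommRing A] [IsNoetherianRing A] [CommRing D]
    [Algebra A D] [Module.Finite A D] (q : Ideal D) [q.IsPrime]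
    (h : CAlg.IsRegularHom (Localization.AtPrime (q.comap (algebraMap A D)))
      (AdicCompletion (maximalIdeal (Localization.AtPrime (q.comap (algebraMap A D))))
        (Localization.AtPrime (q.comap (algebraMap A D))))) :
    CAlg.IsRegularHom (Localization.AtPrime q)
      (AdicCompletion (maximalIdeal (Localization.AtPrime q)) (Localization.AtPrime q)) := by
  haveI : IsNoetherianRing D := IsNoetherianRing.of_finite A D
  let p := q.comap (algebraMap A D)
  haveI : IsNoetherianRing (Localization.AtPrime p) :=
    IsLocalization.isNoetherianRing p.primeCompl _ inferInstance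
  let Q := AdicCompletion (maximalIdeal (Localization.AtPrime p)) (Localization.AtPrime p)
  letI : Algebra p.ResidueField q.ResidueField :=
    (Ideal.ResidueField.mapₐ p q (Algebra.ofId A D) rfl).toRingHom.toAlgebra
  haveI : IsScalarTower A p.ResidueField q.ResidueField :=
    IsScalarTower.of_algebraMap_eq fun x =>
      ((Ideal.ResidueField.mapₐ p q (Algebra.ofId A D) rfl).commutes x).symm
  let ρ₀ : Localization.AtPrime p →ₐ[A] q.ResidueField :=
    (IsScalarTower.toAlgHom A p.ResidueField q.ResidueField).comp
      (IsScalarTower.toAlgHom A (Localization.AtPrime p) p.ResidueField)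
  let ρ : Q →ₐ[A] q.ResidueField :=
    (Ideal.Quotient.liftₐ (maximalIdeal (Localization.AtPrime p)) ρ₀ fun a ha => by
      show algebraMap p.ResidueField q.ResidueField (residue (Localization.AtPrime p) a) = 0
      rw [(residue_eq_zero_iff a).mpr ha, map_zero]).comp
      ((AdicCompletion.evalOneₐ (maximalIdeal (Localization.AtPrime p))).restrictScalars A)
  have hmax : maximalIdeal Q = p.map (algebraMap A Q) := calc
    maximalIdeal Q = (maximalIdeal (Localization.AtPrime p)).map (algebraMap _ Q) :=
      AdicCompletion.maximalIdeal_eq_map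
    _ = (p.map (algebraMap A (Localization.AtPrime p))).map (algebraMap _ Q) :=
      congrArg (Ideal.map _) Localization.AtPrime.map_eq_maximalIdeal.symm
    _ = p.map (algebraMap A Q) := by rw [Ideal.map_map, ← IsScalarTower.algebraMap_eq]
  refine isRegularHom_completion_of_model q hmax (fun r => ?_) ρ (fun r hr => ?_)
    ((isRegularHom_localization_left (R := A) (R' := Localization.AtPrime p) p.primeCompl).mp h)
  · obtain ⟨y, hy⟩ :=
      (AdicCompletion.residueField_map_bijective (Localization.AtPrime p)).2 (residue Q r)
    obtain ⟨r₀, rfl⟩ := residue_surjective y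
    obtain ⟨⟨a, s⟩, has⟩ := IsLocalization.surj p.primeCompl r₀
    refine ⟨s, s.2, a, ?_⟩
    have hr₀ : r - algebraMap _ Q r₀ ∈ maximalIdeal Q := by
      rw [← residue_eq_zero_iff, map_sub, ← hy, ResidueField.map_residue, sub_self]
    have h2 : algebraMap A Q a = algebraMap A Q (s : A) * algebraMap _ Q r₀ := by
      rw [IsScalarTower.algebraMap_apply A (Localization.AtPrime p) Q a,
        IsScalarTower.algebraMap_apply A (Localization.AtPrime p) Q (s : A), ← map_mul,
        mul_comm (algebraMap A (Localization.AtPrime p) (s : A)), has]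
    rw [h2, ← mul_sub]
    exact Ideal.mul_mem_left _ _ hr₀
  · rw [hmax] at hr
    refine (Ideal.map_le_iff_le_comap.mpr fun a ha => ?_ :
      p.map (algebraMap A Q) ≤ RingHom.ker ρ.toRingHom) hr
    show ρ (algebraMap A Q a) = 0
    rw [ρ.commutes, IsScalarTower.algebraMap_apply A D q.ResidueField]
    exact Ideal.algebraMap_residueField_eq_zero.mpr ha

/-- The local rings of an algebra of finite type at points where it is quasi-finite have regular completion
maps if those of the base have. -/
theorem isRegularHom_completion_of_quasiFiniteAt {R S : Type u} [CommRing R] [IsNoetherianRing R] [CommRing S]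
    [Algebra R S] [Algebra.FiniteType R S] (p : Ideal S) [p.IsPrime] [Algebra.QuasiFiniteAt R p]
    (h : CAlg.IsRegularHom (Localization.AtPrime (p.comap (algebraMap R S)))
      (AdicCompletion (maximalIdeal (Localization.AtPrime (p.comap (algebraMap R S))))
        (Localization.AtPrime (p.comap (algebraMap R S))))) :
    CAlg.IsRegularHom (Localization.AtPrime p)
      (AdicCompletion (maximalIdeal (Localization.AtPrime p)) (Localization.AtPrime p)) := by
  obtain ⟨S', hfg, r, hr, hbij⟩ := Algebra.QuasiFiniteAt.exists_fg_and_exists_notMem_and_awayMap_bijective (R := R) p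
  haveI : Module.Finite R S' := Module.Finite.iff_fg.2 hfg
  haveI : IsNoetherianRing S' := IsNoetherianRing.of_finite R S'
  haveI : IsNoetherianRing S := Algebra.FiniteType.isNoetherianRing R S
  have hx : ∀ x : S, ∃ (N : ℕ) (a : S'), (r : S) ^ N * x = a := fun x => by
    obtain ⟨y, hy⟩ := hbij.2 (algebraMap S _ x)
    obtain ⟨⟨a, ⟨_, n, rfl⟩⟩, hy'⟩ := IsLocalization.surj (Submonoid.powers r) y
    have h1 := congrArg (Localization.awayMap S'.val.toRingHom r) hy'
    rw [map_mul, hy] at h1
    simp only [Localization.awayMap, IsLocalization.Away.map, IsLocalization.map_eq, map_pow] at h1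
    rw [← map_pow, ← map_mul] at h1
    obtain ⟨⟨_, k, rfl⟩, hk⟩ := IsLocalization.exists_of_eq (M := Submonoid.powers (S'.val.toRingHom r)) h1
    refine ⟨k + n, r ^ k * a, ?_⟩
    change (r : S) ^ k * (x * (r : S) ^ n) = (r : S) ^ k * (a : S) at hk
    push_cast
    rw [← hk, pow_add]
    ring
  let q := p.comap (algebraMap S' S)
  letI : Algebra S' (Localization.AtPrime p) := ((algebraMap S _).comp S'.val.toRingHom).toAlgebra
  haveI : IsLocalization.AtPrime (Localization.AtPrime p) q := by
    refine ⟨fun s => IsLocalization.map_units (Localization.AtPrime p) (⟨(s : S'), s.2⟩ : p.primeCompl),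
      fun z => ?_, fun {a b} hab => ?_⟩
    · obtain ⟨⟨x, s⟩, hz⟩ := IsLocalization.surj p.primeCompl z
      obtain ⟨N, a, ha⟩ := hx x
      obtain ⟨M, b, hb⟩ := hx s
      refine ⟨⟨r ^ M * a, ⟨r ^ N * b, ?_⟩⟩, ?_⟩
      · show ((r ^ N * b : S') : S) ∉ p
        push_cast
        rw [← hb]
        exact ‹p.IsPrime›.mul_notMem (fun h => hr (‹p.IsPrime›.mem_of_pow_mem N h))
          (‹p.IsPrime›.mul_notMem (fun h => hr (‹p.IsPrime›.mem_of_pow_mem M h)) s.2)
      · show z * algebraMap S _ ((r ^ N * b : S') : S) = algebraMap S _ ((r ^ M * a : S') : S)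
        push_cast
        rw [← hb, ← ha]
        simp only [map_mul, map_pow, ← hz]
        ring
    · obtain ⟨⟨s, hs⟩, hsab⟩ := IsLocalization.exists_of_eq (M := p.primeCompl) hab
      obtain ⟨N, b', hb'⟩ := hx s
      refine ⟨⟨b', ?_⟩, Subtype.ext ?_⟩
      · show (b' : S) ∉ p
        rw [← hb']
        exact ‹p.IsPrime›.mul_notMem (fun h => hr (‹p.IsPrime›.mem_of_pow_mem N h)) hs
      · push_cast
        rw [← hb', mul_assoc, mul_assoc]
        exact congrArg ((r : S) ^ N * ·) hsab
  have e : q.comap (algebraMap R S') = p.comap (algebraMap R S) := rfl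
  haveI : IsNoetherianRing (Localization.AtPrime p) := IsLocalization.isNoetherianRing p.primeCompl _ inferInstance
  haveI : IsNoetherianRing (Localization.AtPrime q) := IsLocalization.isNoetherianRing q.primeCompl _ inferInstance
  exact GrothLib.Excellent.isRegularHom_completion_congr
    (IsLocalization.algEquiv q.primeCompl (Localization.AtPrime q) (Localization.AtPrime p)).toRingEquiv
    (isRegularHom_completion_of_finite_at q h)

end GrothLib.GRingFT
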