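import Groth.Agent.Lib.Serre.Hypersurface
import Groth.Agent.Lib.GRingComplete.Derivation
import Mathlib.Algebra.Polynomial.Derivation
import Mathlib.RingTheory.PolynomialAlgebra

/-!
# Passing from a base to a polynomial ring over it with a derivation
-/

set_option autoImplicit false
set_option backward.isDefEq.respectTransparency false
universe u

open TensorProduct Polynomial IsLocalRing

namespace GrothLib.GRingFT

/-- A derivation killing the base extends to a tensor product. -/
theorem exists_derivation_tensor {A M C : Type u} [CommRing A] [CommRing M] [Algebra A M] [CommRing C]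
    [Algebra A C] (d : Derivation A C C) :
    ∃ Δ : Derivation ℤ (M ⊗[A] C) (M ⊗[A] C), ∀ m c, Δ (m ⊗ₜ c) = m ⊗ₜ d c := by
  let f : M ⊗[A] C →ₗ[A] M ⊗[A] C := TensorProduct.map LinearMap.id d.toLinearMap
  have hf : ∀ m c, f (m ⊗ₜ c) = m ⊗ₜ d c := fun _ _ => rfl
  refine ⟨Derivation.mk' f.toAddMonoidHom.toIntLinearMap fun x y => ?_, hf⟩
  show f (x * y) = x • f y + y • f x
  induction x using TensorProduct.induction_on with
  | zero => simp
  | add x x' hx hx' => simp only [add_mul, map_add, hx, hx', add_smul, smul_add]; abel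
  | tmul m c =>
    induction y using TensorProduct.induction_on with
    | zero => simp
    | add y y' hy hy' => simp only [mul_add, map_add, hy, hy', add_smul, smul_add]; abel
    | tmul n e =>
      rw [Algebra.TensorProduct.tmul_mul_tmul, hf, hf, hf, Derivation.leibniz, tmul_add, smul_eq_mul,
        smul_eq_mul, smul_eq_mul, smul_eq_mul, Algebra.TensorProduct.tmul_mul_tmul,
        Algebra.TensorProduct.tmul_mul_tmul, mul_comm n m]

/-- If `C` carries a derivation over `A` sending `X` to one, tensoring over `A[X]` preserves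
regularity of tensor products over `A`. -/
theorem isRegularRing_tensor_polynomial {A : Type u} [CommRing A] (M C : Type u) [CommRing M] [CommRing C]
    [Algebra A M] [Algebra A[X] M] [IsScalarTower A A[X] M] [Algebra A C] [Algebra A[X] C]
    [IsScalarTower A A[X] C] (d : Derivation A C C) (hd : d (algebraMap A[X] C X) = 1)
    [IsRegularRing (M ⊗[A] C)] : IsRegularRing (M ⊗[A[X]] C) := by
  let α : M := algebraMap A[X] M X
  let ξ : C := algebraMap A[X] C X
  let g : M ⊗[A] C := α ⊗ₜ 1 - 1 ⊗ₜ ξ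
  obtain ⟨Δ, hΔ⟩ := exists_derivation_tensor (M := M) d
  have hΔg : Δ g = -1 := by
    rw [map_sub, hΔ, hΔ, Derivation.map_one_eq_zero, tmul_zero, hd, zero_sub, Algebra.TensorProduct.one_def]
  haveI hreg : IsRegularRing ((M ⊗[A] C) ⧸ Ideal.span {g}) :=
    GrothLib.Serre.isRegularRing_quotient_of_derivation g Δ (by rw [hΔg]; exact isUnit_one.neg.map _)
  let π := Ideal.Quotient.mk (Ideal.span {g})
  have hX : ∀ p : A[X], π (algebraMap A[X] M p ⊗ₜ 1) = π ((1 : M) ⊗ₜ algebraMap A[X] C p) := by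
    intro p
    refine RingHom.congr_fun (Polynomial.ringHom_ext (f := (π.comp Algebra.TensorProduct.includeLeftRingHom).comp (algebraMap A[X] M))
      (g := (π.comp (Algebra.TensorProduct.includeRight : C →ₐ[A] M ⊗[A] C).toRingHom).comp (algebraMap A[X] C))
      (fun a => ?_) ?_) p
    · show π (algebraMap A[X] M (Polynomial.C a) ⊗ₜ 1) = π (1 ⊗ₜ algebraMap A[X] C (Polynomial.C a))
      rw [Polynomial.C_eq_algebraMap, ← IsScalarTower.algebraMap_apply, ← IsScalarTower.algebraMap_apply,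
        Algebra.algebraMap_eq_smul_one, Algebra.algebraMap_eq_smul_one, smul_tmul]
    · show π (α ⊗ₜ 1) = π (1 ⊗ₜ ξ)
      exact Ideal.Quotient.eq.2 (Ideal.mem_span_singleton_self g)
  let fM : M →ₐ[A[X]] (M ⊗[A] C) ⧸ Ideal.span {g} :=
    { π.comp Algebra.TensorProduct.includeLeftRingHom with commutes' := fun _ => rfl }
  let fC : C →ₐ[A[X]] (M ⊗[A] C) ⧸ Ideal.span {g} :=
    { π.comp (Algebra.TensorProduct.includeRight : C →ₐ[A] M ⊗[A] C).toRingHom with
      commutes' := fun p => (hX p).symm }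
  let inv : M ⊗[A[X]] C →+* (M ⊗[A] C) ⧸ Ideal.span {g} :=
    (Algebra.TensorProduct.lift fM fC fun _ _ => Commute.all _ _).toRingHom
  let fwd₀ : M ⊗[A] C →+* M ⊗[A[X]] C :=
    (Algebra.TensorProduct.lift
      ((Algebra.TensorProduct.includeLeft : M →ₐ[A[X]] M ⊗[A[X]] C).restrictScalars A)
      ((Algebra.TensorProduct.includeRight : C →ₐ[A[X]] M ⊗[A[X]] C).restrictScalars A)
      fun _ _ => Commute.all _ _).toRingHom
  have hg0 : fwd₀ g = 0 := by
    rw [map_sub, sub_eq_zero]
    show (α ⊗ₜ[A[X]] (1 : C)) * ((1 : M) ⊗ₜ 1) = ((1 : M) ⊗ₜ 1) * ((1 : M) ⊗ₜ[A[X]] ξ)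
    rw [Algebra.TensorProduct.tmul_mul_tmul, Algebra.TensorProduct.tmul_mul_tmul, mul_one, one_mul, mul_one,
      one_mul]
    show algebraMap A[X] M X ⊗ₜ[A[X]] (1 : C) = (1 : M) ⊗ₜ algebraMap A[X] C X
    rw [Algebra.algebraMap_eq_smul_one, Algebra.algebraMap_eq_smul_one, smul_tmul]
  let fwd : (M ⊗[A] C) ⧸ Ideal.span {g} →+* M ⊗[A[X]] C :=
    Ideal.Quotient.lift _ fwd₀ fun x hx => by
      obtain ⟨r, rfl⟩ := Ideal.mem_span_singleton'.1 hx
      rw [map_mul, hg0, mul_zero]
  have hinv : ∀ m c, inv (m ⊗ₜ c) = π (m ⊗ₜ c) := fun m c => by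
    show π (m ⊗ₜ 1) * π (1 ⊗ₜ c) = _
    rw [← map_mul, Algebra.TensorProduct.tmul_mul_tmul, mul_one, one_mul]
  have hfwd : ∀ m c, fwd (π (m ⊗ₜ c)) = m ⊗ₜ c := fun m c => by
    show (m ⊗ₜ[A[X]] (1 : C)) * ((1 : M) ⊗ₜ[A[X]] c) = _
    rw [Algebra.TensorProduct.tmul_mul_tmul, mul_one, one_mul]
  refine IsRegularRing.of_ringEquiv (R := (M ⊗[A] C) ⧸ Ideal.span {g}) (RingEquiv.ofRingHom fwd inv ?_ ?_)
  · refine RingHom.ext fun t => ?_
    induction t using TensorProduct.induction_on with
    | zero => simp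
    | add x y hx hy => rw [map_add, map_add, hx, hy]
    | tmul m c =>
      show fwd (inv (m ⊗ₜ c)) = _
      rw [hinv, hfwd]
      rfl
  · refine Ideal.Quotient.ringHom_ext (RingHom.ext fun t => ?_)
    induction t using TensorProduct.induction_on with
    | zero => simp
    | add x y hx hy => rw [map_add, map_add, hx, hy]
    | tmul m c =>
      show inv (fwd (π (m ⊗ₜ c))) = π (m ⊗ₜ c)
      rw [hfwd, hinv]

end GrothLib.GRingFT
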