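import Groth.Agent.Lib.GRingFT.Main
import Groth.Agent.Lib.Excellent.Localization
import Mathlib.AlgebraicGeometry.Noetherian

/-!
# G-rings and affine opens
-/

set_option autoImplicit false
universe u

open AlgebraicGeometry IsLocalRing

namespace GrothLib.GRingFT

/-- The G-ring property is local on the spectrum. -/
theorem isGRing_of_away {A : Type u} [CommRing A] (S : Finset A) (hS : Ideal.span (S : Set A) = ⊤)
    (h : ∀ s : S, CAlg.IsGRing (Localization.Away (s : A))) : CAlg.IsGRing A := by
  haveI : IsNoetherianRing A := isNoetherianRing_of_away (S := S) hS fun s => (h s).1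
  refine ⟨inferInstance, fun p _ => ?_⟩
  obtain ⟨s, hs, hsp⟩ : ∃ s ∈ S, s ∉ p := by
    by_contra hc
    push Not at hc
    exact Ideal.IsPrime.ne_top ‹p.IsPrime› (top_le_iff.1 (hS ▸ Ideal.span_le.2 hc))
  let As := Localization.Away s
  let q := p.map (algebraMap A As)
  have hdisj : Disjoint (Submonoid.powers s : Set A) p :=
    Set.disjoint_left.2 fun _ ⟨n, hn⟩ hx => hsp (‹p.IsPrime›.mem_of_pow_mem n (by rw [show s ^ n = _ from hn]; exact hx))
  haveI : q.IsPrime := IsLocalization.isPrime_of_isPrime_disjoint (Submonoid.powers s) As p ‹_› hdisj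
  have hq : q.comap (algebraMap A As) = p :=
    IsLocalization.comap_map_of_isPrime_disjoint (Submonoid.powers s) As ‹_› hdisj
  haveI := (h ⟨s, hs⟩).1
  haveI : IsNoetherianRing (Localization.AtPrime p) := IsLocalization.isNoetherianRing p.primeCompl _ inferInstance
  haveI : IsNoetherianRing (Localization.AtPrime q) := IsLocalization.isNoetherianRing q.primeCompl _ inferInstance
  haveI h1 := IsLocalization.isLocalization_isLocalization_atPrime_isLocalization (Submonoid.powers s)
    (Localization.AtPrime q) q
  haveI : IsLocalization.AtPrime (Localization.AtPrime q) p := by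
    simp only [hq] at h1
    exact h1
  exact GrothLib.Excellent.isRegularHom_completion_congr
    (IsLocalization.algEquiv p.primeCompl (Localization.AtPrime q) (Localization.AtPrime p)).toRingEquiv
    ((h ⟨s, hs⟩).2 q)

/-- A scheme covered by spectra of G-rings has G-rings on all its affine opens. -/
theorem isGRing_affineOpen {X : Scheme.{u}}
    (h : ∀ x : X, ∃ U : X.Opens, x ∈ U ∧ IsAffineOpen U ∧ CAlg.IsGRing Γ(X, U))
    (V : X.Opens) (hV : IsAffineOpen V) : CAlg.IsGRing Γ(X, V) := by
  choose U hxU hU hG using h
  refine of_affine_open_cover (P := fun W => CAlg.IsGRing Γ(X, W.1)) (fun x => (⟨U x, hU x⟩ : X.affineOpens))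
    (top_le_iff.1 fun x _ => TopologicalSpace.Opens.mem_iSup.2 ⟨x, hxU x⟩) ⟨V, hV⟩ (fun W f hW => ?_)
    (fun W s hs hsP => ?_) hG
  · haveI := W.2.isLocalization_basicOpen f
    exact GrothLib.Excellent.isGRing_localization (A' := Γ(X, X.basicOpen f)) (Submonoid.powers f) hW
  · refine isGRing_of_away s hs fun f => ?_
    haveI := W.2.isLocalization_basicOpen f.1
    exact isGRing_congr
      (IsLocalization.algEquiv (Submonoid.powers f.1) Γ(X, X.basicOpen f.1) (Localization.Away f.1)).toRingEquiv
      (hsP f)

end GrothLib.GRingFT
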